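import Groth.Agent.Lib.PBC24.ModBC0
import Groth.Agent.Lib.EtStalk.IntegralUniv
import Groth.Agent.Lib.EtStalk.Restr
import Groth.Agent.Lib.EtStalk.JCont
import Groth.Agent.Lib.InjDim6.Forget
import Groth.Prelude.Def_EtDl

/-!
# Sections supported on a closed subscheme as a right adjoint of direct image
-/

set_option autoImplicit false
set_option linter.style.haveILetI false
set_option linter.unusedSectionVars false
set_option backward.isDefEq.respectTransparency false
set_option backward.isDefEq.respectTransparency.types false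

universe u

open CategoryTheory CategoryTheory.Limits AlgebraicGeometry Opposite

namespace Groth.Agent.ShriekAdj6

open Groth.Agent.EtStalk
open EtDl (pullPushModAdj unitMod)

variable (Λ : Type (u + 1)) [CommRing Λ] {Z X U : Scheme.{u}} (i : Z ⟶ X) [IsClosedImmersion i]

theorem isIso_unit_of_supp (F : EtModW.Mod Λ X)
    (h : EtPBC.supp ((EtModD.forgetToAb Λ X).obj F) ⊆ Set.range i.base) : IsIso (unitMod Λ i F) := by
  haveI := isIso_unit_integral i _ h
  haveI : IsIso ((EtModD.forgetToAb Λ X).map (unitMod Λ i F)) := by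
    show IsIso ((EtModD.forgetToAb Λ X).map ((EtSix.pullPushModAdj Λ i).unit.app F))
    rw [← PBC24.unit_pullForget Λ i F]
    infer_instance
  haveI : (EtModD.forgetToAb Λ X).ReflectsIsomorphisms :=
    reflectsIsomorphisms_of_reflectsMonomorphisms_of_reflectsEpimorphisms _
  exact isIso_of_reflects_iso _ (EtModD.forgetToAb Λ X)

theorem supp_pushMod (M : EtModW.Mod Λ Z) :
    EtPBC.supp ((EtModD.forgetToAb Λ X).obj ((EtModW.push Λ i).obj M)) ⊆ Set.range i.base :=
  supp_push_subset i ((EtModD.forgetToAb Λ Z).obj M)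

theorem isIso_counit (M : EtModW.Mod Λ Z) : IsIso ((pullPushModAdj Λ i).counit.app M) := by
  haveI := isIso_unit_of_supp Λ i _ (supp_pushMod Λ i M)
  haveI : IsIso ((pullPushModAdj Λ i).unit.app ((EtModW.push Λ i).obj M) ≫
      (EtModW.push Λ i).map ((pullPushModAdj Λ i).counit.app M)) := by
    exact (congrArg (fun z => IsIso z) ((pullPushModAdj Λ i).right_triangle_components M)).mpr (IsIso.id _)
  haveI h0 : IsIso ((EtModW.push Λ i).map ((pullPushModAdj Λ i).counit.app M)) :=
    IsIso.of_isIso_comp_left ((pullPushModAdj Λ i).unit.app ((EtModW.push Λ i).obj M)) _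
  haveI : (EtCoh.push i).Faithful :=
    haveI : IsIso (EtCoh.pullPushAdj i).counit :=
      haveI : ∀ G, IsIso ((EtCoh.pullPushAdj i).counit.app G) := isIso_counit_integral i
      NatIso.isIso_of_isIso_app _
    (EtCoh.pullPushAdj i).fullyFaithfulROfIsIsoCounit.faithful
  haveI h1 : IsIso ((EtCoh.push i).map ((EtModD.forgetToAb Λ Z).map ((pullPushModAdj Λ i).counit.app M))) :=
    inferInstanceAs (IsIso ((EtModD.forgetToAb Λ X).map ((EtModW.push Λ i).map ((pullPushModAdj Λ i).counit.app M))))
  haveI : (EtCoh.push i).ReflectsIsomorphisms :=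
    reflectsIsomorphisms_of_reflectsMonomorphisms_of_reflectsEpimorphisms _
  haveI : (EtModD.forgetToAb Λ Z).ReflectsIsomorphisms :=
    reflectsIsomorphisms_of_reflectsMonomorphisms_of_reflectsEpimorphisms _
  haveI := isIso_of_reflects_iso ((EtModD.forgetToAb Λ Z).map ((pullPushModAdj Λ i).counit.app M)) (EtCoh.push i)
  exact isIso_of_reflects_iso _ (EtModD.forgetToAb Λ Z)

variable (j : U ⟶ X)

/-- A sheaf supported away from the image has zero inverse image. -/
theorem isZero_pull_of_supp (F : EtModW.Mod Λ X)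
    (h : Disjoint (EtPBC.supp ((EtModD.forgetToAb Λ X).obj F)) (Set.range j.base)) :
    IsZero ((EtModW.pull Λ j).obj F) := by
  refine (IsZero.iff_id_eq_zero _).2 ((EtModD.forgetToAb Λ U).map_injective ?_)
  rw [CategoryTheory.Functor.map_id, Functor.map_zero]
  refine IsZero.eq_of_src (IsZero.of_iso ?_ ((PBC24.pullForget Λ j).app F).symm) _ _
  refine (isZero_iff_stalk _).2 fun Ω _ _ ξ => ?_
  refine IsZero.of_iso (Classical.not_not.1 fun hne => ?_) (asIso (stalkPull j ξ ((EtModD.forgetToAb Λ X).obj F))).symm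
  exact Set.disjoint_left.1 h
    (⟨Ω, inferInstance, inferInstance, ξ ≫ j, Set.range_eq_singleton_iff.2
      fun z => congrArg (ξ ≫ j) (Subsingleton.elim z default), hne⟩ :
      (ξ ≫ j) (default : Spec (CommRingCat.of Ω)) ∈ EtPBC.supp ((EtModD.forgetToAb Λ X).obj F))
    ⟨ξ (default : Spec (CommRingCat.of Ω)), rfl⟩

variable [IsOpenImmersion j]

/-- A sheaf with zero restriction is supported on the complement. -/
theorem supp_subset_of_isZero_pull (F : EtModW.Mod Λ X) (h : IsZero ((EtModW.pull Λ j).obj F)) :
    EtPBC.supp ((EtModD.forgetToAb Λ X).obj F) ⊆ (Set.range j.base)ᶜ := by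
  rintro x ⟨Ω, _, _, η, hη, hne⟩ hx
  have hr : Set.range η.base ⊆ Set.range j.base := by
    rw [show Set.range η.base = {x} from hη, Set.singleton_subset_iff]; exact hx
  obtain ⟨ξ, rfl⟩ : ∃ ξ : Spec (CommRingCat.of Ω) ⟶ U, ξ ≫ j = η :=
    ⟨IsOpenImmersion.lift j η hr, IsOpenImmersion.lift_fac j η hr⟩
  have hz : IsZero ((EtCoh.pull j).obj ((EtModD.forgetToAb Λ X).obj F)) :=
    IsZero.of_iso (Functor.map_isZero (EtModD.forgetToAb Λ U) h) ((PBC24.pullForget Λ j).app F)
  exact hne (IsZero.of_iso ((isZero_iff_stalk _).1 hz Ω ξ) (asIso (stalkPull j ξ _)))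

/-- The sections supported off an open vanish on it. -/
theorem isZero_pull_secSupp (F : EtModW.Mod Λ X) :
    IsZero ((EtModW.pull Λ j).obj ((EtDl.secSuppMod Λ j).obj F)) := by
  haveI : Mono ((EtModW.pull Λ j).map (unitMod Λ j F)) :=
    mono_of_mono_fac ((pullPushModAdj Λ j).left_triangle_components F)
  haveI : Mono ((EtModW.pull Λ j).map (kernel.ι (unitMod Λ j F))) := by
    haveI : PreservesFiniteLimits (EtModW.pull Λ j) :=
      ModLan3.preservesFiniteLimits_sheafPullback.{u + 1} Λ (EtCoh.bc j) _ _
    infer_instance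
  refine (IsZero.iff_id_eq_zero _).2 ?_
  rw [← cancel_mono ((EtModW.pull Λ j).map (kernel.ι (unitMod Λ j F))), zero_comp]
  refine (Category.id_comp _).trans ?_
  rw [← cancel_mono ((EtModW.pull Λ j).map (unitMod Λ j F)), zero_comp, ← Functor.map_comp, kernel.condition,
    Functor.map_zero]

variable {j} (hij : Set.range j.base = (Set.range i.base)ᶜ)

include hij

/-- Direct images from the closed subscheme map to zero outside it. -/
theorem comp_unit_eq_zero {M : EtModW.Mod Λ Z} {F : EtModW.Mod Λ X} (f : (EtModW.push Λ i).obj M ⟶ F) :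
    f ≫ unitMod Λ j F = 0 := by
  have hz : IsZero ((EtModW.pull Λ j).obj ((EtModW.push Λ i).obj M)) :=
    isZero_pull_of_supp Λ j _ (Disjoint.mono_left (supp_pushMod Λ i M) (by rw [hij]; exact disjoint_compl_right))
  refine ((pullPushModAdj Λ j).unit.naturality f).trans ?_
  exact (congrArg (_ ≫ ·) ((Functor.map_isZero (EtModW.push Λ j) hz).eq_of_src _ 0)).trans comp_zero

theorem isIso_unit_secSupp (F : EtModW.Mod Λ X) : IsIso (unitMod Λ i ((EtDl.secSuppMod Λ j).obj F)) :=
  isIso_unit_of_supp Λ i _ ((supp_subset_of_isZero_pull Λ j _ (isZero_pull_secSupp Λ j F)).trans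
    (by rw [hij, compl_compl]))

omit hij in
/-- The inclusion of the sections supported off `U`. -/
noncomputable def suppι (j : U ⟶ X) (F : EtModW.Mod Λ X) : (EtDl.secSuppMod Λ j).obj F ⟶ F := kernel.ι (unitMod Λ j F)

omit hij in
theorem suppι_naturality (j : U ⟶ X) {F F' : EtModW.Mod Λ X} (a : F ⟶ F') :
    (EtDl.secSuppMod Λ j).map a ≫ suppι Λ j F' = suppι Λ j F ≫ a := kernel.lift_ι _ _ _

omit hij in
theorem mono_suppι (j : U ⟶ X) (F : EtModW.Mod Λ X) : Mono (suppι Λ j F) :=
  inferInstanceAs (Mono (kernel.ι (unitMod Λ j F)))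

/-- Direct images factor through the sections supported on the closed subscheme. -/
noncomputable def suppLift {M : EtModW.Mod Λ Z} {F : EtModW.Mod Λ X} (f : (EtModW.push Λ i).obj M ⟶ F) :
    (EtModW.push Λ i).obj M ⟶ (EtDl.secSuppMod Λ j).obj F :=
  kernel.lift (unitMod Λ j F) f (comp_unit_eq_zero Λ i hij f)

theorem suppLift_ι {M : EtModW.Mod Λ Z} {F : EtModW.Mod Λ X} (f : (EtModW.push Λ i).obj M ⟶ F) :
    suppLift Λ i hij f ≫ suppι Λ j F = f := kernel.lift_ι _ _ _

/-- Direct image along a closed immersion is left adjoint to sections supported on it. -/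
noncomputable def closedAdj : EtModW.push Λ i ⊣ EtDl.secSuppMod Λ j ⋙ EtModW.pull Λ i :=
  haveI := isIso_counit Λ i
  haveI := isIso_unit_secSupp Λ i hij
  haveI := mono_suppι Λ j
  Adjunction.mkOfHomEquiv
    { homEquiv := fun M F =>
        { toFun := fun f => inv ((pullPushModAdj Λ i).counit.app M) ≫ (EtModW.pull Λ i).map (suppLift Λ i hij f)
          invFun := fun g => (EtModW.push Λ i).map g ≫ inv (unitMod Λ i ((EtDl.secSuppMod Λ j).obj F)) ≫ suppι Λ j F
          left_inv := fun f => by
            show (EtModW.push Λ i).map (inv ((pullPushModAdj Λ i).counit.app M) ≫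
              (EtModW.pull Λ i).map (suppLift Λ i hij f)) ≫ inv (unitMod Λ i _) ≫ suppι Λ j F = f
            have e : (EtModW.push Λ i).map (inv ((pullPushModAdj Λ i).counit.app M)) =
                unitMod Λ i ((EtModW.push Λ i).obj M) := by
              rw [Functor.map_inv]
              exact IsIso.inv_eq_of_inv_hom_id ((pullPushModAdj Λ i).right_triangle_components M)
            rw [Functor.map_comp, e]
            refine Eq.trans (congrArg (· ≫ (inv (unitMod Λ i _) ≫ suppι Λ j F))
              ((pullPushModAdj Λ i).unit.naturality (suppLift Λ i hij f)).symm) ?_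
            refine (Category.assoc _ _ _).trans ?_
            erw [IsIso.hom_inv_id_assoc]
            exact suppLift_ι Λ i hij f
          right_inv := fun g => by
            show inv ((pullPushModAdj Λ i).counit.app M) ≫ (EtModW.pull Λ i).map (suppLift Λ i hij
              ((EtModW.push Λ i).map g ≫ inv (unitMod Λ i _) ≫ suppι Λ j F)) = g
            have e : suppLift Λ i hij ((EtModW.push Λ i).map g ≫
                inv (unitMod Λ i ((EtDl.secSuppMod Λ j).obj F)) ≫ suppι Λ j F) =
              (EtModW.push Λ i).map g ≫ inv (unitMod Λ i ((EtDl.secSuppMod Λ j).obj F)) := by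
              rw [← cancel_mono (suppι Λ j F), suppLift_ι]
              exact (Category.assoc _ _ _).symm
            have e' : (EtModW.pull Λ i).map (inv (unitMod Λ i ((EtDl.secSuppMod Λ j).obj F))) =
                (pullPushModAdj Λ i).counit.app ((EtModW.pull Λ i).obj ((EtDl.secSuppMod Λ j).obj F)) := by
              rw [Functor.map_inv]
              exact IsIso.inv_eq_of_hom_inv_id ((pullPushModAdj Λ i).left_triangle_components _)
            rw [e, Functor.map_comp, e', IsIso.inv_comp_eq]
            exact (pullPushModAdj Λ i).counit.naturality g }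
      homEquiv_naturality_left_symm := fun {M M' F} f g => by
        show (EtModW.push Λ i).map (f ≫ g) ≫ _ = (EtModW.push Λ i).map f ≫ _
        rw [Functor.map_comp]
        exact Category.assoc _ _ _
      homEquiv_naturality_right := fun {M F F'} f a => by
        show inv ((pullPushModAdj Λ i).counit.app M) ≫ (EtModW.pull Λ i).map (suppLift Λ i hij (f ≫ a)) =
          (inv ((pullPushModAdj Λ i).counit.app M) ≫ (EtModW.pull Λ i).map (suppLift Λ i hij f)) ≫
            (EtModW.pull Λ i).map ((EtDl.secSuppMod Λ j).map a)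
        refine Eq.trans ?_ (Category.assoc _ _ _).symm
        refine congrArg (_ ≫ ·) ?_
        rw [← Functor.map_comp]
        refine congrArg _ ?_
        rw [← cancel_mono (suppι Λ j F'), suppLift_ι, Category.assoc, suppι_naturality, ← Category.assoc, suppLift_ι] }

end Groth.Agent.ShriekAdj6
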