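import Groth.Agent.Lib.ShriekAdj6.Main
import Groth.Agent.Lib.ModGen6.ExtZero
import Groth.Agent.Lib.EtStalk.ExtZero

/-!
# Isomorphisms detected on a closed subscheme and its open complement; empty intersections
-/

set_option autoImplicit false
set_option linter.style.haveILetI false
set_option linter.unusedSectionVars false
set_option backward.isDefEq.respectTransparency false
set_option backward.isDefEq.respectTransparency.types false

universe u

open CategoryTheory CategoryTheory.Limits AlgebraicGeometry Opposite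

namespace Groth.Agent.ShriekAdj6

open Groth.Agent.EtStalk
open EtDl (pullPushModAdj unitMod)

variable (Λ : Type (u + 1)) [CommRing Λ]

section Crit

variable {Z U X : Scheme.{u}} (i : Z ⟶ X) [IsClosedImmersion i] (j : U ⟶ X) [IsOpenImmersion j]
  (hij : Set.range j.base = (Set.range i.base)ᶜ)

include hij

theorem isZero_of_pulls (K : EtModW.Mod Λ X) (h1 : IsZero ((EtModW.pull Λ i).obj K))
    (h2 : IsZero ((EtModW.pull Λ j).obj K)) : IsZero K := by
  haveI := isIso_unit_of_supp Λ i K ((supp_subset_of_isZero_pull Λ j K h2).trans (by rw [hij, compl_compl]))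
  exact IsZero.of_iso (Functor.map_isZero (EtModW.push Λ i) h1) (asIso (unitMod Λ i K))

/-- A map which is invertible on the closed subscheme and on its complement is invertible. -/
theorem isIso_of_pulls {F G : EtModW.Mod Λ X} (φ : F ⟶ G) (h1 : IsIso ((EtModW.pull Λ i).map φ))
    (h2 : IsIso ((EtModW.pull Λ j).map φ)) : IsIso φ := by
  haveI : PreservesFiniteLimits (EtModW.pull Λ i) := EtMod3.preservesFiniteLimits_pull Λ i
  haveI : PreservesFiniteLimits (EtModW.pull Λ j) := EtMod3.preservesFiniteLimits_pull Λ j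
  haveI : Mono φ := Preadditive.mono_of_isZero_kernel φ (isZero_of_pulls Λ i j hij _
    (IsZero.of_iso (isZero_kernel_of_mono _) (PreservesKernel.iso (EtModW.pull Λ i) φ))
    (IsZero.of_iso (isZero_kernel_of_mono _) (PreservesKernel.iso (EtModW.pull Λ j) φ)))
  haveI : Epi φ := Preadditive.epi_of_isZero_cokernel φ (isZero_of_pulls Λ i j hij _
    (IsZero.of_iso (isZero_cokernel_of_epi _) (PreservesCokernel.iso (EtModW.pull Λ i) φ))
    (IsZero.of_iso (isZero_cokernel_of_epi _) (PreservesCokernel.iso (EtModW.pull Λ j) φ)))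
  exact isIso_of_mono_of_epi φ

end Crit

/-- Modules on the empty scheme vanish. -/
theorem isZero_of_isEmpty {E : Scheme.{u}} [IsEmpty ↥E] (M : EtModW.Mod Λ E) : IsZero M := by
  refine (IsZero.iff_id_eq_zero _).2 ((EtModD.forgetToAb Λ E).map_injective ?_)
  rw [CategoryTheory.Functor.map_id, Functor.map_zero]
  refine IsZero.eq_of_src ((isZero_iff_stalk _).2 fun Ω _ _ ξ => ?_) _ _
  exact isEmptyElim (ξ (default : Spec (CommRingCat.of Ω)))

theorem isEmpty_of_disjoint {T X P W : Scheme.{u}} {a : X ⟶ P} {k : T ⟶ P} (f : W ⟶ X) (g : W ⟶ T)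
    (w : f ≫ a = g ≫ k) (h : Disjoint (Set.range k.base) (Set.range a.base)) : IsEmpty ↥W :=
  ⟨fun z => Set.disjoint_left.1 h ⟨g z, rfl⟩ ⟨f z, by
    show (f ≫ a) z = (g ≫ k) z
    rw [w]⟩⟩

variable {T X P : Scheme.{u}} (j' : X ⟶ P) [IsOpenImmersion j'] (k : T ⟶ P)
  (h : Disjoint (Set.range k.base) (Set.range j'.base))

include h

/-- Extension by zero vanishes away from the open. -/
theorem isZero_pull_extZero (M : EtModW.Mod Λ X) :
    IsZero ((EtModW.pull Λ k).obj ((EtDl.extZeroMod Λ j').obj M)) := by
  haveI : IsEmpty ↥(pullback j' k) := isEmpty_of_disjoint (pullback.fst j' k) (pullback.snd j' k) pullback.condition h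
  let e := ModGen6.extZeroBCMod (Λ := Λ) j' k (pullback.snd j' k) (pullback.fst j' k)
    (IsPullback.of_hasPullback j' k).flip
  haveI : (EtSix.extZeroMod Λ (pullback.snd j' k)).Additive := inferInstance
  exact IsZero.of_iso (Functor.map_isZero (EtSix.extZeroMod Λ (pullback.snd j' k))
    (isZero_of_isEmpty Λ ((EtModW.pull Λ (pullback.fst j' k)).obj M))) (e.app M).symm

/-- Direct image from an open vanishes on a disjoint open. -/
theorem isZero_pull_push [IsOpenImmersion k] (M : EtModW.Mod Λ X) :
    IsZero ((EtModW.pull Λ k).obj ((EtModW.push Λ j').obj M)) := by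
  haveI : IsEmpty ↥(pullback j' k) := isEmpty_of_disjoint (pullback.fst j' k) (pullback.snd j' k) pullback.condition h
  let e := ModGen6.restrPushMod (Λ := Λ) k j' (pullback.fst j' k) (pullback.snd j' k) (IsPullback.of_hasPullback j' k)
  haveI : (EtModW.push Λ (pullback.snd j' k)).Additive := inferInstance
  exact IsZero.of_iso (Functor.map_isZero (EtModW.push Λ (pullback.snd j' k))
    (isZero_of_isEmpty Λ ((EtSix.restrMod Λ (pullback.fst j' k)).obj M)))
    (((restrPullModIso Λ k).symm.app _) ≪≫ (e.app M).symm)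

end Groth.Agent.ShriekAdj6
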