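import Groth.Agent.Lib.ShriekAdj6.Dominate
import Groth.Agent.Lib.ModBCPlus6.Main
import Groth.Agent.Lib.PBCShriek6.Indep

/-!
# Derived direct image with proper support of modules: independence, base change
-/

set_option autoImplicit false
set_option linter.style.haveILetI false
set_option linter.unusedSectionVars false
set_option backward.isDefEq.respectTransparency false
set_option backward.isDefEq.respectTransparency.types false

universe u w₁ w₂ w₃ v₁ v₂ v₃ u₁ u₂ u₃

open CategoryTheory CategoryTheory.Limits AlgebraicGeometry Opposite HomologicalComplex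

namespace Groth.Agent.ShriekAdj6

section Comp

variable {A : Type u₁} [Category.{v₁} A] [Abelian A] {B : Type u₂} [Category.{v₂} B] [Abelian B]
  {C : Type u₃} [Category.{v₃} C] [Abelian C]
  [HasDerivedCategory.{w₁} A] [HasDerivedCategory.{w₂} B] [HasDerivedCategory.{w₃} C]

/-- Composition of derived functors when the first sends injectives to acyclic complexes. -/
theorem isIso_rPlusDesc₂_of_acyclic [EnoughInjectives A] [EnoughInjectives B]
    {F : A ⥤ B} {G : B ⥤ C} {H : A ⥤ C} [F.Additive] [G.Additive] [H.Additive] (θ : H ⟶ F ⋙ G) [IsIso θ]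
    (hG : ∀ K : CochainComplex.Plus A, (∀ n, Injective (K.obj.X n)) → IsIso (G.rightDerivedFunctorPlusUnit.app
      (F.mapHomotopyCategoryPlus.obj ((HomotopyCategory.Plus.quotient A).obj K)))) :
    IsIso (EtSix.rPlusDesc₂ θ) := by
  refine (Functor.isRightDerivedFunctor_iff_isIso_rightDerivedDesc _ H.rightDerivedFunctorPlusUnit
    (HomotopyCategory.Plus.quasiIso A) _ _).1 ?_
  refine (HomotopyCategory.Plus.localizerMorphism_derives _).isRightDerivedFunctor_of_isIso _ fun Y => ?_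
  obtain ⟨Y, rfl⟩ := HomotopyCategory.Plus.quotient_obj_surjective Y
  let K := (InjectiveObject.ι A).mapCochainComplexPlus.obj Y
  haveI hinj : ∀ n, Injective (K.obj.X n) := fun n => (Y.obj.X n).property
  have hK := hG K hinj
  have hF : IsIso (F.rightDerivedFunctorPlusUnit.app ((HomotopyCategory.Plus.quotient A).obj K)) := inferInstance
  haveI := RPlusComp3.isIso_plusNatTrans θ
  have h1 : IsIso (EtSix.plusNatTrans θ ≫ (Functor.mapHomotopyCategoryPlusCompIso (Iso.refl (F ⋙ G))).inv) :=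
    inferInstance
  simp only [EtSix.rPlusUnit₂, NatTrans.comp_app, Functor.whiskerRight_app, Functor.whiskerLeft_app,
    Functor.associator_hom_app, Functor.associator_inv_app]
  refine @IsIso.comp_isIso _ _ _ _ _ _ _ inferInstance ?_
  refine @IsIso.comp_isIso _ _ _ _ _ _ _ inferInstance ?_
  refine @IsIso.comp_isIso _ _ _ _ _ _ _ hK ?_
  refine @IsIso.comp_isIso _ _ _ _ _ _ _ inferInstance ?_
  refine @IsIso.comp_isIso _ _ _ _ _ _ _ ?_ inferInstance
  exact @Functor.map_isIso _ _ _ _ _ _ G.rightDerivedFunctorPlus _ hF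

end Comp

attribute [local instance] HasDerivedCategory.standard

open Groth.Agent.EtStalk

variable (Λ : Type (u + 1)) [CommRing Λ]

/-- Composition with an exact functor after. -/
noncomputable def compExact {A B C : Scheme.{u}} {F : EtModW.Mod Λ A ⥤ EtModW.Mod Λ B} {G : EtModW.Mod Λ B ⥤ EtModW.Mod Λ C}
    {H : EtModW.Mod Λ A ⥤ EtModW.Mod Λ C} [F.Additive] [G.Additive] [H.Additive] [PreservesFiniteLimits G]
    [PreservesFiniteColimits G] (e : F ⋙ G ≅ H) :
    F.rightDerivedFunctorPlus ⋙ G.rightDerivedFunctorPlus ≅ H.rightDerivedFunctorPlus :=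
  haveI := isIso_rPlusDesc₂_of_acyclic e.inv (fun _ _ => ModBCPlus6.isIso_unit_of_exact G _)
  (asIso (EtSix.rPlusDesc₂ e.inv)).symm

/-- Composition of direct images. -/
noncomputable def compPush {A B C : Scheme.{u}} (p : A ⟶ B) (f : B ⟶ C) (h : A ⟶ C) (w : p ≫ f = h) :
    (EtModW.push Λ p).rightDerivedFunctorPlus ⋙ (EtModW.push Λ f).rightDerivedFunctorPlus ≅
      (EtModW.push Λ h).rightDerivedFunctorPlus :=
  haveI := RPlusComp3.isIso_rPlusDesc₂ (EtSix.pushModComp Λ f p ≪≫ EtSix.pushModCongr Λ w).inv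
  (asIso (EtSix.rPlusDesc₂ (EtSix.pushModComp Λ f p ≪≫ EtSix.pushModCongr Λ w).inv)).symm

/-- Forgetting commutes with extension by zero. -/
noncomputable def extZeroForget {X P : Scheme.{u}} (j : X ⟶ P) [IsOpenImmersion j] :
    EtModD.forgetToAb Λ X ⋙ EtShriek.extZero j ≅ EtDl.extZeroMod Λ j ⋙ EtModD.forgetToAb Λ P :=
  Adjunction.leftAdjointUniq ((PBC24.forgetAdj Λ X).comp (EtShriek.extZeroAdj j))
    (((EtDl.extZeroModAdj Λ j).comp (PBC24.forgetAdj Λ P)).ofNatIsoRight
      (Iso.refl (EtShriek.restrAlong j ⋙ PBC24.coIndSh Λ X) :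
        PBC24.coIndSh Λ P ⋙ EtDl.restrMod Λ j ≅ EtShriek.restrAlong j ⋙ PBC24.coIndSh Λ X))

/-- Extension by zero of modules is exact. -/
theorem exact_extZeroMod {X P : Scheme.{u}} (j : X ⟶ P) [IsOpenImmersion j] :
    PreservesFiniteLimits (EtDl.extZeroMod Λ j) ∧ PreservesFiniteColimits (EtDl.extZeroMod Λ j) := by
  haveI : PreservesFiniteColimits (EtDl.extZeroMod Λ j) := inferInstance
  haveI : (EtDl.extZeroMod Λ j).PreservesMonomorphisms :=
    ⟨fun {F G} a _ => by
      haveI : PreservesFiniteLimits (EtShriek.extZero j) := inferInstance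
      haveI : Mono ((EtModD.forgetToAb Λ X).map a) := inferInstance
      have h0 : Mono ((EtModD.forgetToAb Λ X ⋙ EtShriek.extZero j).map a) := by
        haveI : (EtShriek.extZero j).PreservesMonomorphisms := inferInstance
        exact (EtShriek.extZero j).map_mono ((EtModD.forgetToAb Λ X).map a)
      have hm : Mono ((EtDl.extZeroMod Λ j ⋙ EtModD.forgetToAb Λ P).map a) :=
        ((MorphismProperty.monomorphisms _).arrow_mk_iso_iff
          (Arrow.isoMk ((extZeroForget Λ j).app F) ((extZeroForget Λ j).app G)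
            ((extZeroForget Λ j).hom.naturality a).symm)).1 h0
      exact (EtModD.forgetToAb Λ P).mono_of_mono_map hm⟩
  haveI : (EtDl.extZeroMod Λ j).PreservesHomology :=
    Functor.preservesHomology_of_preservesMonos_and_cokernels _
  exact ⟨Functor.preservesFiniteLimits_of_preservesHomology _, inferInstance⟩

variable {n : ℕ} (hn : 0 < n) (hΛ : (n : Λ) = 0)

include hn hΛ in
theorem isTorsion_forget {X : Scheme.{u}} (M : EtModW.Mod Λ X) :
    EtCoh.IsTorsion ((EtModD.forgetToAb Λ X).obj M) :=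
  PBC24.isTorsion_of_nsmul hn (PBC24.nsmul_forget hΛ M)

include hn hΛ in
/-- Extensions by zero are acyclic for a proper morphism whose composite with the open immersion is an
open immersion. -/
theorem isIso_unit_extZero {X P P' : Scheme.{u}} (j : X ⟶ P) [IsOpenImmersion j] (j' : X ⟶ P') [IsOpenImmersion j']
    (p : P' ⟶ P) [IsProper p] (w : j' ≫ p = j) (K : CochainComplex.Plus (EtModW.Mod Λ X)) :
    IsIso ((EtModW.push Λ p).rightDerivedFunctorPlusUnit.app
      ((EtDl.extZeroMod Λ j').mapHomotopyCategoryPlus.obj ((HomotopyCategory.Plus.quotient (EtModW.Mod Λ X)).obj K))) := by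
  let C := (EtDl.extZeroMod Λ j').mapCochainComplexPlus.obj K
  obtain ⟨a, ha⟩ := C.property
  obtain ⟨I, q, hq, hinj, hI⟩ := CochainComplex.Plus.modelCategoryQuillen.exists_quasiIso_injective C.obj a
  let I' : CochainComplex.Plus (EtModW.Mod Λ P') := ⟨I, a, hI⟩
  let q' : C ⟶ I' := ObjectProperty.homMk q
  haveI : _root_.QuasiIso q'.hom := hq
  haveI : ∀ m, Injective (I'.obj.X m) := hinj
  show IsIso ((EtModW.push Λ p).rightDerivedFunctorPlusUnit.app ((HomotopyCategory.Plus.quotient _).obj C))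
  rw [RFPlus.isIso_unit_iff (EtModW.push Λ p) q']
  let U' := EtModD.forgetToAb Λ P'
  let Uq := (U'.mapHomologicalComplex (ComplexShape.up ℤ)).map q
  haveI : _root_.QuasiIso q := hq
  haveI : CochainComplex.IsStrictlyGE ((U'.mapHomologicalComplex (ComplexShape.up ℤ)).obj C.obj) (a - 1 + 1) :=
    ModBCPlus6.isStrictlyGE_cx _ C.obj a _ (by omega)
  haveI : CochainComplex.IsStrictlyGE ((U'.mapHomologicalComplex (ComplexShape.up ℤ)).obj I) (a - 1) :=
    ModBCPlus6.isStrictlyGE_cx _ I a _ (by omega)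
  haveI : PreservesLimitsOfSize.{0, 0} (EtCoh.push p) := (EtCoh.pullPushAdj p).rightAdjoint_preservesLimits
  obtain ⟨el⟩ := EtShriek24.extZero_iso_lowerShriek j'
  have h := RFPlus.quasiIso_map_of_acyclic_terms (EtCoh.push p) Uq (a - 1)
    (fun m i hi => by
      have hz := (PBCShriek6.push_lowerShriek PBC24.properBC j' p j w.symm _
        (isTorsion_forget Λ hn hΛ (K.obj.X m))).2 i hi
      exact hz.of_iso ((EtCoh.Rpush p i).mapIso (((extZeroForget Λ j').app (K.obj.X m)).symm ≪≫ el.app _)))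
    (fun m i hi => EtAcyc24.isZero_Rpush_of_acyc p (PBC24.acyc_forget Λ (I.X m)) i hi)
  exact @ModBCPlus6.quasiIso_of_forget Λ _ _ _ _ _ h

include hn hΛ in
/-- A compactification above computes the same functor. -/
theorem nonempty_RshriekPlus_dominated {X Y : Scheme.{u}} {f : X ⟶ Y} (c d : DEt.Compactification f)
    (p : d.Xbar ⟶ c.Xbar) [IsProper p] (hj : d.j ≫ p = c.j) (hf : p ≫ c.fbar = d.fbar) :
    Nonempty (EtDl.RshriekPlus Λ c ≅ EtDl.RshriekPlus Λ d) := by
  haveI := isIso_θmap Λ c.j d.j p hj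
  haveI := isIso_rPlusDesc₂_of_acyclic (θmap Λ c.j d.j p hj) (fun K _ => isIso_unit_extZero Λ hn hΛ c.j d.j p hj K)
  exact ⟨Functor.isoWhiskerRight (asIso (EtSix.rPlusDesc₂ (θmap Λ c.j d.j p hj))) _ ≪≫
    Functor.associator _ _ _ ≪≫ Functor.isoWhiskerLeft _ (compPush Λ p c.fbar d.fbar hf)⟩

include hn hΛ in
/-- Independence of the compactification. -/
theorem nonempty_RshriekPlus_indep {X Y : Scheme.{u}} [CompactSpace X] [QuasiSeparatedSpace X] [CompactSpace Y]
    [QuasiSeparatedSpace Y] {f : X ⟶ Y} (c c' : DEt.Compactification f) :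
    Nonempty (EtDl.RshriekPlus Λ c ≅ EtDl.RshriekPlus Λ c') := by
  obtain ⟨d, p₁, p₂, h₁, h₂, hj₁, hj₂, hf₁, hf₂⟩ := Groth.Agent.S8603.result c c'
  haveI := h₁; haveI := h₂
  obtain ⟨e₁⟩ := nonempty_RshriekPlus_dominated Λ hn hΛ c d p₁ hj₁ hf₁
  obtain ⟨e₂⟩ := nonempty_RshriekPlus_dominated Λ hn hΛ c' d p₂ hj₂ hf₂
  exact ⟨e₁ ≪≫ e₂.symm⟩

include hn hΛ in
/-- Base change for derived direct images along proper morphisms, as functors. -/
theorem nonempty_pushPlus_baseChange {X S X' S' : Scheme.{u}} (f : X ⟶ S) (g : S' ⟶ S) (f' : X' ⟶ S') (g' : X' ⟶ X)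
    (h : IsPullback g' f' f g) [IsProper f] :
    Nonempty (EtDl.pushPlus Λ f ⋙ EtDl.pullPlus Λ g ≅ EtDl.pullPlus Λ g' ⋙ EtDl.pushPlus Λ f') := by
  haveI : PreservesFiniteLimits (EtModW.pull Λ g) := EtMod3.preservesFiniteLimits_pull Λ g
  haveI := ModBCPlus6.preservesFiniteColimits_pullMod Λ g
  haveI : (EtModW.pull Λ g).Additive := (EtSix.pullPushModAdj Λ g).left_adjoint_additive
  obtain ⟨adj⟩ := S14623.aux (EtSix.pullPushModAdj Λ g)
  let β : EtDl.pushPlus Λ f ⋙ EtDl.pullPlus Λ g ⟶ EtDl.pullPlus Λ g' ⋙ EtDl.pushPlus Λ f' :=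
    { app := fun K => EtSix.bcMapMod Λ f g f' g' h.w adj K
      naturality := fun K K' a => by
        simp only [EtSix.bcMapMod, Functor.comp_map]
        erw [← Adjunction.homEquiv_naturality_left_symm, ← Adjunction.homEquiv_naturality_right_symm]
        exact congrArg _ ((EtSix.bcAdjMod Λ f g f' g' h.w).naturality a) }
  haveI : ∀ K, IsIso (β.app K) := fun K => ModBCPlus6.isIso_bcMapMod Λ f g f' g' h adj K
    (fun i => isTorsion_forget Λ hn hΛ _)
  exact ⟨NatIso.ofComponents (fun K => asIso (β.app K)) (fun a => β.naturality a)⟩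

include hn hΛ in
/-- Base change for direct image with proper support. -/
theorem nonempty_RshriekPlus_baseChange {X S X' S' : Scheme.{u}}
    [CompactSpace X'] [QuasiSeparatedSpace X'] [CompactSpace S'] [QuasiSeparatedSpace S']
    {f : X ⟶ S} (c : DEt.Compactification f) {f' : X' ⟶ S'} (c' : DEt.Compactification f')
    (g : S' ⟶ S) (g' : X' ⟶ X) (hc : IsPullback g' f' f g) :
    Nonempty (EtDl.RshriekPlus Λ c ⋙ EtDl.pullPlus Λ g ≅ EtDl.pullPlus Λ g' ⋙ EtDl.RshriekPlus Λ c') := by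
  let P := pullback c.fbar g
  let q := pullback.fst c.fbar g
  let fb := pullback.snd c.fbar g
  let j₂ : X' ⟶ P := pullback.lift (g' ≫ c.j) f' (by rw [Category.assoc, c.fac, hc.w])
  have sq : IsPullback g' j₂ c.j q :=
    IsPullback.of_bot (h₂₁ := q) (v₂₁ := fb) (v₂₂ := c.fbar)
      (by rw [pullback.lift_snd, c.fac]; exact hc) (pullback.lift_fst _ _ _).symm (IsPullback.of_hasPullback _ _)
  haveI : IsOpenImmersion j₂ := MorphismProperty.of_isPullback sq inferInstance
  let d : DEt.Compactification f' := ⟨P, j₂, fb, inferInstance, inferInstance, pullback.lift_snd _ _ _⟩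
  obtain ⟨e₁⟩ := nonempty_pushPlus_baseChange Λ hn hΛ c.fbar g fb q (IsPullback.of_hasPullback c.fbar g)
  obtain ⟨e₂⟩ := nonempty_RshriekPlus_indep Λ hn hΛ d c'
  haveI : PreservesFiniteLimits (EtModW.pull Λ q) := EtMod3.preservesFiniteLimits_pull Λ q
  haveI := ModBCPlus6.preservesFiniteColimits_pullMod Λ q
  haveI : PreservesFiniteLimits (EtDl.extZeroMod Λ j₂) := (exact_extZeroMod Λ j₂).1
  haveI : PreservesFiniteColimits (EtDl.extZeroMod Λ j₂) := (exact_extZeroMod Λ j₂).2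
  haveI : (EtModW.pull Λ g' ⋙ EtDl.extZeroMod Λ j₂).Additive := inferInstance
  let k₁ : EtDl.extZeroPlus Λ c.j ⋙ EtDl.pullPlus Λ q ≅
      (EtModW.pull Λ g' ⋙ EtDl.extZeroMod Λ j₂).rightDerivedFunctorPlus :=
    compExact Λ (ModGen6.extZeroBCMod (Λ := Λ) c.j q j₂ g' sq.flip).symm
  let k₂ : EtDl.pullPlus Λ g' ⋙ EtDl.extZeroPlus Λ j₂ ≅
      (EtModW.pull Λ g' ⋙ EtDl.extZeroMod Λ j₂).rightDerivedFunctorPlus := compExact Λ (Iso.refl _)
  exact ⟨Functor.associator _ _ _ ≪≫ Functor.isoWhiskerLeft _ e₁ ≪≫ (Functor.associator _ _ _).symm ≪≫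
    Functor.isoWhiskerRight (k₁ ≪≫ k₂.symm) _ ≪≫ Functor.associator _ _ _ ≪≫ Functor.isoWhiskerLeft _ e₂⟩

include hn hΛ in
/-- `Rg'_* f'^! = f^! Rg_*` (S8595). -/
theorem nonempty_upperShriek_pushPlus {X S X' S' : Scheme.{u}}
    [CompactSpace X'] [QuasiSeparatedSpace X'] [CompactSpace S'] [QuasiSeparatedSpace S']
    {f : X ⟶ S} (c : DEt.Compactification f) {f' : X' ⟶ S'} (c' : DEt.Compactification f')
    (g : S' ⟶ S) (g' : X' ⟶ X) (h : IsPullback g' f' f g)
    (G : DerivedCategory.Plus (EtModW.Mod Λ S) ⥤ DerivedCategory.Plus (EtModW.Mod Λ X))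
    (adj : EtDl.RshriekPlus Λ c ⊣ G)
    (G' : DerivedCategory.Plus (EtModW.Mod Λ S') ⥤ DerivedCategory.Plus (EtModW.Mod Λ X'))
    (adj' : EtDl.RshriekPlus Λ c' ⊣ G') :
    Nonempty (G' ⋙ EtDl.pushPlus Λ g' ≅ EtDl.pushPlus Λ g ⋙ G) := by
  haveI : PreservesFiniteLimits (EtModW.pull Λ g) := EtMod3.preservesFiniteLimits_pull Λ g
  haveI := ModBCPlus6.preservesFiniteColimits_pullMod Λ g
  haveI : PreservesFiniteLimits (EtModW.pull Λ g') := EtMod3.preservesFiniteLimits_pull Λ g'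
  haveI := ModBCPlus6.preservesFiniteColimits_pullMod Λ g'
  obtain ⟨a⟩ := S14623.aux (EtSix.pullPushModAdj Λ g)
  obtain ⟨a'⟩ := S14623.aux (EtSix.pullPushModAdj Λ g')
  obtain ⟨e⟩ := nonempty_RshriekPlus_baseChange Λ hn hΛ c c' g g' h
  let A₁ : EtDl.pullPlus Λ g' ⋙ EtDl.RshriekPlus Λ c' ⊣ G' ⋙ EtDl.pushPlus Λ g' := a'.comp adj'
  let A₂ : EtDl.RshriekPlus Λ c ⋙ EtDl.pullPlus Λ g ⊣ EtDl.pushPlus Λ g ⋙ G := adj.comp a
  exact ⟨A₁.rightAdjointUniq (A₂.ofNatIsoLeft e)⟩

end Groth.Agent.ShriekAdj6
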