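import Groth.Agent.Lib.ShriekAdj6.Open
import Groth.Agent.Lib.PBC24.ModBCUnb

/-!
# Extension by zero and a proper morphism, for sheaves of modules
-/

set_option autoImplicit false
set_option linter.style.haveILetI false
set_option linter.unusedSectionVars false
set_option backward.isDefEq.respectTransparency false
set_option backward.isDefEq.respectTransparency.types false

universe u

open CategoryTheory CategoryTheory.Limits AlgebraicGeometry Opposite

namespace Groth.Agent.ShriekAdj6

open Groth.Agent.EtStalk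
open EtDl (pullPushModAdj unitMod)

variable (Λ : Type (u + 1)) [CommRing Λ] {X P P' : Scheme.{u}}

/-- The map from extension by zero to direct image. -/
noncomputable def toPushMod (j : X ⟶ P) [IsOpenImmersion j] : EtDl.extZeroMod Λ j ⟶ EtModW.push Λ j :=
  haveI : ∀ M, IsIso ((pullPushModAdj Λ j).counit.app M) := isIso_counit_open Λ j
  { app := fun M => ((extZeroPullAdj Λ j).homEquiv M _).symm (inv ((pullPushModAdj Λ j).counit.app M))
    naturality := fun M N a => by
      rw [← Adjunction.homEquiv_naturality_left_symm, ← Adjunction.homEquiv_naturality_right_symm]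
      refine congrArg _ ?_
      rw [IsIso.eq_inv_comp, ← Category.assoc, IsIso.comp_inv_eq]
      exact ((pullPushModAdj Λ j).counit.naturality a).symm }

theorem isIso_pull_toPushMod (j : X ⟶ P) [IsOpenImmersion j] (M : EtModW.Mod Λ X) :
    IsIso ((EtModW.pull Λ j).map ((toPushMod Λ j).app M)) := by
  haveI := isIso_extZeroPull_unit Λ j
  haveI := isIso_counit_open Λ j M
  have e : (extZeroPullAdj Λ j).unit.app M ≫ (EtModW.pull Λ j).map ((toPushMod Λ j).app M) =
      inv ((pullPushModAdj Λ j).counit.app M) := by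
    exact ((extZeroPullAdj Λ j).homEquiv_unit M _ _).symm.trans (Equiv.apply_symm_apply _ _)
  haveI : IsIso ((extZeroPullAdj Λ j).unit.app M ≫ (EtModW.pull Λ j).map ((toPushMod Λ j).app M)) := by
    rw [e]; infer_instance
  exact IsIso.of_isIso_comp_left ((extZeroPullAdj Λ j).unit.app M) _

theorem isIso_pull_of_comp {A B C : Scheme.{u}} (σ : A ⟶ B) (ι : B ⟶ C) (k : A ⟶ C) (w : σ ≫ ι = k)
    {F G : EtModW.Mod Λ C} (φ : F ⟶ G) (h : IsIso ((EtModW.pull Λ k).map φ)) :
    IsIso ((EtModW.pull Λ σ).map ((EtModW.pull Λ ι).map φ)) := by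
  subst w
  exact (NatIso.isIso_map_iff (EtSix.pullModComp Λ σ ι) φ).1 h

theorem isZero_pull_of_comp {A B C : Scheme.{u}} (σ : A ⟶ B) (ι : B ⟶ C) (k : A ⟶ C) (w : σ ≫ ι = k)
    {F : EtModW.Mod Λ C} (h : IsZero ((EtModW.pull Λ k).obj F)) :
    IsZero ((EtModW.pull Λ σ).obj ((EtModW.pull Λ ι).obj F)) := by
  subst w
  exact IsZero.of_iso h ((EtSix.pullModComp Λ σ ι).app F).symm

variable (j : X ⟶ P) [IsOpenImmersion j] (j' : X ⟶ P') [IsOpenImmersion j'] (p : P' ⟶ P) [IsProper p]
  (w : j' ≫ p = j)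

/-- `p_* j'_! → p_* j'_* = j_*`. -/
noncomputable def compToPush : EtDl.extZeroMod Λ j' ⋙ EtModW.push Λ p ⟶ EtModW.push Λ j :=
  Functor.whiskerRight (toPushMod Λ j') (EtModW.push Λ p) ≫ (EtSix.pushModComp Λ p j').hom ≫
    (EtSix.pushModCongr Λ w).hom

theorem isIso_pull_compToPush (M : EtModW.Mod Λ X) :
    IsIso ((EtModW.pull Λ j).map ((compToPush Λ j j' p w).app M)) := by
  let O : P.Opens := j.opensRange
  let f'' : pullback p j ⟶ X := pullback.snd p j
  let ι' : pullback p j ⟶ P' := pullback.fst p j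
  let σ : X ⟶ pullback p j := pullback.lift j' (𝟙 X) (by rw [w, Category.id_comp])
  have hσ : σ ≫ ι' = j' := pullback.lift_fst _ _ _
  haveI : IsClosedImmersion σ :=
    haveI : IsClosedImmersion (σ ≫ f'') := by rw [pullback.lift_snd]; infer_instance
    IsClosedImmersion.of_comp σ f''
  let W : (pullback p j).Opens := ⟨(Set.range σ.base)ᶜ, σ.isClosedEmbedding.isClosed_range.isOpen_compl⟩
  have hW : Set.range W.ι.base = (Set.range σ.base)ᶜ := W.range_ι
  have hdisj : Disjoint (Set.range (W.ι ≫ ι').base) (Set.range j'.base) := by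
    rw [Set.disjoint_left]
    rintro _ ⟨z, rfl⟩ ⟨x, hx⟩
    refine (show W.ι z ∈ (Set.range σ.base)ᶜ from hW ▸ ⟨z, rfl⟩) ⟨x, ?_⟩
    refine ι'.isOpenEmbedding.injective ?_
    show (σ ≫ ι') x = ι' (W.ι z)
    rw [hσ]
    exact hx
  let α := (toPushMod Λ j').app M
  haveI h1 : IsIso ((EtModW.pull Λ ι').map α) := by
    refine isIso_of_pulls Λ σ W.ι hW _ (isIso_pull_of_comp Λ σ ι' j' hσ α (isIso_pull_toPushMod Λ j' M)) ?_
    haveI := hdisj
    exact ⟨0, (isZero_pull_of_comp Λ W.ι ι' _ rfl (isZero_pull_extZero Λ j' (W.ι ≫ ι') hdisj M)).eq_of_src _ _,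
      (isZero_pull_of_comp Λ W.ι ι' _ rfl (isZero_pull_push Λ j' (W.ι ≫ ι') hdisj M)).eq_of_src _ _⟩
  have hsq : IsPullback ι' f'' p j := IsPullback.of_hasPullback p j
  haveI : IsIso ((EtModW.pull Λ j).map ((EtModW.push Λ p).map α)) := by
    haveI : ∀ F, IsIso ((PBC24.bc0NM Λ p j f'' ι' hsq.w).app F) := fun F =>
      PBC24.isIso_baseChange0Mod Λ p j f'' ι' hsq F
    haveI : IsIso (PBC24.bc0NM Λ p j f'' ι' hsq.w) := NatIso.isIso_of_isIso_app _
    exact (NatIso.isIso_map_iff (asIso (PBC24.bc0NM Λ p j f'' ι' hsq.w)) α).2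
      (inferInstanceAs (IsIso ((EtModW.push Λ f'').map ((EtModW.pull Λ ι').map α))))
  simp only [compToPush, NatTrans.comp_app, Functor.whiskerRight_app, Functor.map_comp]
  infer_instance

/-- The section `M → (p_* j'_! M)|_X`. -/
noncomputable def sectionMap :
    𝟭 (EtModW.Mod Λ X) ⟶ (EtDl.extZeroMod Λ j' ⋙ EtModW.push Λ p) ⋙ EtModW.pull Λ j :=
  haveI : ∀ M, IsIso ((pullPushModAdj Λ j).counit.app M) := isIso_counit_open Λ j
  haveI : ∀ M, IsIso ((Functor.whiskerRight (compToPush Λ j j' p w) (EtModW.pull Λ j)).app M) :=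
    isIso_pull_compToPush Λ j j' p w
  haveI : IsIso (Functor.whiskerRight (compToPush Λ j j' p w) (EtModW.pull Λ j)) := NatIso.isIso_of_isIso_app _
  haveI : IsIso (pullPushModAdj Λ j).counit := NatIso.isIso_of_isIso_app _
  inv (Functor.whiskerRight (compToPush Λ j j' p w) (EtModW.pull Λ j) ≫ (pullPushModAdj Λ j).counit)

/-- `j_! → p_* j'_!`. -/
noncomputable def θmap : EtDl.extZeroMod Λ j ⟶ EtDl.extZeroMod Λ j' ⋙ EtModW.push Λ p where
  app M := ((extZeroPullAdj Λ j).homEquiv M _).symm ((sectionMap Λ j j' p w).app M)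
  naturality M N a := by
    rw [← Adjunction.homEquiv_naturality_left_symm, ← Adjunction.homEquiv_naturality_right_symm]
    exact congrArg _ ((sectionMap Λ j j' p w).naturality a)

theorem isIso_θmap : IsIso (θmap Λ j j' p w) := by
  suffices ∀ M, IsIso ((θmap Λ j j' p w).app M) from NatIso.isIso_of_isIso_app _
  intro M
  let C : P.Opens := j.opensRange
  let Z := (Scheme.IdealSheafData.vanishingIdeal (⟨(C : Set P)ᶜ, C.2.isClosed_compl⟩ : TopologicalSpace.Closeds P))
  let i := Z.subschemeι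
  have hi : Set.range i.base = (Set.range j.base)ᶜ := by
    rw [Scheme.IdealSheafData.range_subschemeι, Scheme.IdealSheafData.coe_support_vanishingIdeal]
    rfl
  have hj : Set.range j.base = (Set.range i.base)ᶜ := by rw [hi, compl_compl]
  refine isIso_of_pulls Λ i j hj _ ?_ ?_
  · have hd : Disjoint (Set.range i.base) (Set.range j.base) := by rw [hi]; exact disjoint_compl_left
    have hd' : Disjoint (Set.range (pullback.fst p i).base) (Set.range j'.base) := by
      rw [Set.disjoint_left]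
      rintro _ ⟨z, rfl⟩ ⟨x, hx⟩
      refine Set.disjoint_left.1 hd ⟨pullback.snd p i z, rfl⟩ ⟨x, ?_⟩
      rw [← w]
      show p (j' x) = (pullback.snd p i ≫ i) z
      rw [← pullback.condition, hx]
      rfl
    haveI := PBC24.isIso_baseChange0Mod Λ p i (pullback.snd p i) (pullback.fst p i) (IsPullback.of_hasPullback p i)
      ((EtDl.extZeroMod Λ j').obj M)
    exact ⟨0, (isZero_pull_extZero Λ j i hd M).eq_of_src _ _,
      (IsZero.of_iso (Functor.map_isZero (EtModW.push Λ (pullback.snd p i))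
          (isZero_pull_extZero Λ j' (pullback.fst p i) hd' M))
        (asIso (EtSix.baseChange0Mod Λ p i (pullback.snd p i) (pullback.fst p i)
          (IsPullback.of_hasPullback p i).w ((EtDl.extZeroMod Λ j').obj M)))).eq_of_src _ _⟩
  · haveI := isIso_extZeroPull_unit Λ j
    have e : (extZeroPullAdj Λ j).unit.app M ≫ (EtModW.pull Λ j).map ((θmap Λ j j' p w).app M) =
        (sectionMap Λ j j' p w).app M := by
      exact ((extZeroPullAdj Λ j).homEquiv_unit M _ _).symm.trans (Equiv.apply_symm_apply _ _)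
    haveI : IsIso (sectionMap Λ j j' p w) := by
      simp only [sectionMap]; infer_instance
    haveI : IsIso ((extZeroPullAdj Λ j).unit.app M ≫ (EtModW.pull Λ j).map ((θmap Λ j j' p w).app M)) := by
      rw [e]; infer_instance
    exact IsIso.of_isIso_comp_left ((extZeroPullAdj Λ j).unit.app M) _

end Groth.Agent.ShriekAdj6
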