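import Groth.Agent.Lib.ShriekAdj6.Derived
import Groth.Agent.Lib.EtStalk.FiniteSplit

/-!
# The right adjoint of direct image with proper support along an étale morphism
-/

set_option autoImplicit false
set_option linter.style.haveILetI false
set_option linter.unusedSectionVars false
set_option backward.isDefEq.respectTransparency false
set_option backward.isDefEq.respectTransparency.types false

universe u

open CategoryTheory CategoryTheory.Limits AlgebraicGeometry Opposite HomologicalComplex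

namespace Groth.Agent.ShriekAdj6

attribute [local instance] HasDerivedCategory.standard

open Groth.Agent.EtStalk

variable (Λ : Type (u + 1)) [CommRing Λ]

section Lift

variable {A B : Scheme.{u}}

/-- A left adjoint of a linear functor is linear. -/
theorem map_smul_id_left {L : EtModW.Mod Λ A ⥤ EtModW.Mod Λ B} {R : EtModW.Mod Λ B ⥤ EtModW.Mod Λ A}
    [L.Additive] [R.Additive] (adj : L ⊣ R) (hR : ∀ (r : Λ) (N : EtModW.Mod Λ B), R.map (r • 𝟙 N) = r • 𝟙 (R.obj N))
    (r : Λ) (M : EtModW.Mod Λ A) : L.map (r • 𝟙 M) = r • 𝟙 (L.obj M) := by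
  refine (adj.homEquiv _ _).injective ?_
  rw [Adjunction.homEquiv_unit, Adjunction.homEquiv_unit, hR, Linear.comp_smul]
  refine (adj.unit.naturality (r • 𝟙 M)).symm.trans ?_
  rw [Functor.id_map, Linear.smul_comp]
  erw [Category.id_comp]
  first
    | exact congrArg (r • ·) (Category.comp_id _).symm
    | skip

/-- A natural isomorphism of underlying abelian sheaves of linear functors is linear. -/
theorem nonempty_iso_of_forget {F G : EtModW.Mod Λ A ⥤ EtModW.Mod Λ B}
    (hF : ∀ (r : Λ) (M : EtModW.Mod Λ A), F.map (r • 𝟙 M) = r • 𝟙 (F.obj M))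
    (hG : ∀ (r : Λ) (M : EtModW.Mod Λ A), G.map (r • 𝟙 M) = r • 𝟙 (G.obj M))
    (e : F ⋙ EtModD.forgetToAb Λ B ≅ G ⋙ EtModD.forgetToAb Λ B) : Nonempty (F ≅ G) := by
  have hlin : ∀ (M : EtModW.Mod Λ A) (V : B.Etaleᵒᵖ) (r : Λ) (s : (F.obj M).obj.obj V),
      (e.hom.app M).hom.app V (r • s) =
        HSMul.hSMul (β := ↥((G.obj M).obj.obj V)) r ((e.hom.app M).hom.app V s) := by
    intro M V r s
    have h := e.hom.naturality (r • 𝟙 M)
    simp only [Functor.comp_map, hF, hG] at h
    exact congrArg (fun ψ : (F ⋙ EtModD.forgetToAb Λ B).obj M ⟶ (G ⋙ EtModD.forgetToAb Λ B).obj M => ψ.hom.app V s) h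
  let φ : ∀ M, F.obj M ⟶ G.obj M := fun M => ⟨{
    app := fun V => ModuleCat.ofHom
      { toFun := fun s => (e.hom.app M).hom.app V s
        map_add' := fun s t => map_add _ s t
        map_smul' := fun r s => hlin M V r s }
    naturality := fun V V' a => ModuleCat.hom_ext (LinearMap.ext fun s =>
      NatTrans.naturality_apply (e.hom.app M).hom a s) }⟩
  have hφ : ∀ M, (EtModD.forgetToAb Λ B).map (φ M) = e.hom.app M := fun M => rfl
  haveI : (EtModD.forgetToAb Λ B).ReflectsIsomorphisms :=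
    reflectsIsomorphisms_of_reflectsMonomorphisms_of_reflectsEpimorphisms _
  haveI : ∀ M, IsIso (φ M) := fun M => by
    haveI : IsIso ((EtModD.forgetToAb Λ B).map (φ M)) := by rw [hφ]; infer_instance
    exact isIso_of_reflects_iso _ (EtModD.forgetToAb Λ B)
  exact ⟨NatIso.ofComponents (fun M => asIso (φ M)) fun {M N} a => (EtModD.forgetToAb Λ B).map_injective (by
    simp only [asIso_hom, Functor.map_comp, hφ]
    exact e.hom.naturality a)⟩

theorem map_smul_id_push (f : A ⟶ B) (r : Λ) (M : EtModW.Mod Λ A) :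
    (EtModW.push Λ f).map (r • 𝟙 M) = r • 𝟙 ((EtModW.push Λ f).obj M) := by
  ext; rfl

theorem map_smul_id_extZero (j : A ⟶ B) [AlgebraicGeometry.Etale j] (r : Λ) (M : EtModW.Mod Λ A) :
    (EtDl.extZeroMod Λ j).map (r • 𝟙 M) = r • 𝟙 ((EtDl.extZeroMod Λ j).obj M) :=
  map_smul_id_left Λ (EtDl.extZeroModAdj Λ j) (fun r N => by ext; rfl) r M

/-- Forgetting commutes with extension by zero along étale morphisms. -/
noncomputable def extZeroForgetEt (j : A ⟶ B) [AlgebraicGeometry.Etale j] :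
    EtModD.forgetToAb Λ A ⋙ EtShriek.extZero j ≅ EtDl.extZeroMod Λ j ⋙ EtModD.forgetToAb Λ B :=
  Adjunction.leftAdjointUniq ((PBC24.forgetAdj Λ A).comp (EtShriek.extZeroAdj j))
    (((EtDl.extZeroModAdj Λ j).comp (PBC24.forgetAdj Λ B)).ofNatIsoRight
      (Iso.refl (EtShriek.restrAlong j ⋙ PBC24.coIndSh Λ A) :
        PBC24.coIndSh Λ B ⋙ EtDl.restrMod Λ j ≅ EtShriek.restrAlong j ⋙ PBC24.coIndSh Λ A))

theorem preservesFiniteLimits_extZeroEt (j : A ⟶ B) [AlgebraicGeometry.Etale j] :
    PreservesFiniteLimits (EtDl.extZeroMod Λ j) := by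
  haveI : PreservesFiniteColimits (EtDl.extZeroMod Λ j) := inferInstance
  haveI : (EtDl.extZeroMod Λ j).PreservesMonomorphisms :=
    ⟨fun {F G} a _ => by
      haveI : PreservesFiniteLimits (EtShriek.extZero j) := inferInstance
      haveI : Mono ((EtModD.forgetToAb Λ A).map a) := inferInstance
      haveI : (EtShriek.extZero j).PreservesMonomorphisms := inferInstance
      have h0 : Mono ((EtModD.forgetToAb Λ A ⋙ EtShriek.extZero j).map a) :=
        (EtShriek.extZero j).map_mono ((EtModD.forgetToAb Λ A).map a)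
      have hm : Mono ((EtDl.extZeroMod Λ j ⋙ EtModD.forgetToAb Λ B).map a) :=
        ((MorphismProperty.monomorphisms _).arrow_mk_iso_iff
          (Arrow.isoMk ((extZeroForgetEt Λ j).app F) ((extZeroForgetEt Λ j).app G)
            ((extZeroForgetEt Λ j).hom.naturality a).symm)).1 h0
      exact (EtModD.forgetToAb Λ B).mono_of_mono_map hm⟩
  haveI : (EtDl.extZeroMod Λ j).PreservesHomology :=
    Functor.preservesHomology_of_preservesMonos_and_cokernels _
  exact Functor.preservesFiniteLimits_of_preservesHomology _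

end Lift

variable {n : ℕ} (hn : 0 < n) (hΛ : (n : Λ) = 0)

include hn hΛ in
/-- Extensions by zero to a compactification of an étale morphism are acyclic. -/
theorem isIso_unit_extZero_etale {X P S : Scheme.{u}} {f : X ⟶ S} [AlgebraicGeometry.Etale f] [IsSeparated f]
    (j : X ⟶ P) [IsOpenImmersion j] (p : P ⟶ S) [IsProper p] (w : j ≫ p = f)
    (K : CochainComplex.Plus (EtModW.Mod Λ X)) :
    IsIso ((EtModW.push Λ p).rightDerivedFunctorPlusUnit.app
      ((EtDl.extZeroMod Λ j).mapHomotopyCategoryPlus.obj ((HomotopyCategory.Plus.quotient (EtModW.Mod Λ X)).obj K))) := by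
  haveI : LocallyQuasiFinite f := FiniteSplit.locallyQuasiFinite_of_etale f
  let C := (EtDl.extZeroMod Λ j).mapCochainComplexPlus.obj K
  obtain ⟨a, ha⟩ := C.property
  obtain ⟨I, q, hq, hinj, hI⟩ := CochainComplex.Plus.modelCategoryQuillen.exists_quasiIso_injective C.obj a
  let I' : CochainComplex.Plus (EtModW.Mod Λ P) := ⟨I, a, hI⟩
  let q' : C ⟶ I' := ObjectProperty.homMk q
  haveI : _root_.QuasiIso q'.hom := hq
  haveI : ∀ m, Injective (I'.obj.X m) := hinj
  show IsIso ((EtModW.push Λ p).rightDerivedFunctorPlusUnit.app ((HomotopyCategory.Plus.quotient _).obj C))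
  rw [RFPlus.isIso_unit_iff (EtModW.push Λ p) q']
  let U' := EtModD.forgetToAb Λ P
  let Uq := (U'.mapHomologicalComplex (ComplexShape.up ℤ)).map q
  haveI : _root_.QuasiIso q := hq
  haveI : CochainComplex.IsStrictlyGE ((U'.mapHomologicalComplex (ComplexShape.up ℤ)).obj C.obj) (a - 1 + 1) :=
    ModBCPlus6.isStrictlyGE_cx _ C.obj a _ (by omega)
  haveI : CochainComplex.IsStrictlyGE ((U'.mapHomologicalComplex (ComplexShape.up ℤ)).obj I) (a - 1) :=
    ModBCPlus6.isStrictlyGE_cx _ I a _ (by omega)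
  haveI : PreservesLimitsOfSize.{0, 0} (EtCoh.push p) := (EtCoh.pullPushAdj p).rightAdjoint_preservesLimits
  obtain ⟨el⟩ := EtShriek24.extZero_iso_lowerShriek j
  have h := RFPlus.quasiIso_map_of_acyclic_terms (EtCoh.push p) Uq (a - 1)
    (fun m i hi => by
      have hz := (PBCShriek6.push_lowerShriek PBC24.properBC j p f w.symm _
        (isTorsion_forget Λ hn hΛ (K.obj.X m))).2 i hi
      exact hz.of_iso ((EtCoh.Rpush p i).mapIso (((extZeroForget Λ j).app (K.obj.X m)).symm ≪≫ el.app _)))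
    (fun m i hi => EtAcyc24.isZero_Rpush_of_acyc p (PBC24.acyc_forget Λ (I.X m)) i hi)
  exact @ModBCPlus6.quasiIso_of_forget Λ _ _ _ _ _ h

include hn hΛ in
/-- `Rf^! = f^*` for étale `f` (S3725). -/
theorem nonempty_adj_etale {X S : Scheme.{u}} {f : X ⟶ S} [AlgebraicGeometry.Etale f] (c : DEt.Compactification f) :
    Nonempty (EtDl.RshriekPlus Λ c ⊣ EtDl.pullPlus Λ f) := by
  haveI : IsSeparated (c.j ≫ c.fbar) := inferInstance
  haveI : IsSeparated f := c.fac ▸ ‹IsSeparated (c.j ≫ c.fbar)›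
  haveI : EtShriek.JCont f := EtStalk.jCont f
  obtain ⟨a⟩ := EtShriek24.extZero_iso_lowerShriek f
  obtain ⟨b⟩ := EtShriek24.lowerShriek_compactification c.j c.fbar
  let N : EtShriek.extZero f ≅ EtShriek.extZero c.j ⋙ EtCoh.push c.fbar :=
    a ≪≫ eqToIso (congrArg EtShriek.lowerShriek c.fac.symm) ≪≫ b
  let e : EtDl.extZeroMod Λ f ⋙ EtModD.forgetToAb Λ S ≅
      (EtDl.extZeroMod Λ c.j ⋙ EtModW.push Λ c.fbar) ⋙ EtModD.forgetToAb Λ S :=
    (extZeroForgetEt Λ f).symm ≪≫ Functor.isoWhiskerLeft (EtModD.forgetToAb Λ X) N ≪≫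
      (Functor.associator _ _ _).symm ≪≫ Functor.isoWhiskerRight (extZeroForget Λ c.j) (EtCoh.push c.fbar)
  obtain ⟨θ⟩ := nonempty_iso_of_forget Λ (map_smul_id_extZero Λ f) (fun r M => by
    show (EtModW.push Λ c.fbar).map ((EtDl.extZeroMod Λ c.j).map (r • 𝟙 M)) = _
    rw [map_smul_id_extZero, map_smul_id_push]; rfl) e
  haveI := isIso_rPlusDesc₂_of_acyclic θ.hom (fun K _ => isIso_unit_extZero_etale Λ hn hΛ c.j c.fbar c.fac K)
  haveI : PreservesFiniteLimits (EtDl.extZeroMod Λ f) := preservesFiniteLimits_extZeroEt Λ f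
  haveI : PreservesFiniteColimits (EtDl.extZeroMod Λ f) := inferInstance
  let r : EtDl.restrMod Λ f ≅ EtModW.pull Λ f :=
    ((compBcAdj f).sheafPushforwardContinuous (E := ModuleCat.{u + 1} Λ) X.smallEtaleTopology S.smallEtaleTopology :
      EtDl.restrMod Λ f ⊣ EtModW.push Λ f).leftAdjointUniq (EtDl.pullPushModAdj Λ f)
  obtain ⟨A⟩ := S14623.aux ((EtDl.extZeroModAdj Λ f).ofNatIsoRight r)
  exact ⟨A.ofNatIsoLeft (asIso (EtSix.rPlusDesc₂ θ.hom))⟩

end Groth.Agent.ShriekAdj6
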