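import Groth.Agent.Lib.ShriekAdj6.Closed
import Groth.Agent.Lib.EtMod3.PullExact
import Groth.Agent.Lib.RPlusComp3.Basic
import Groth.Agent.S14623

/-!
# The right adjoint of derived direct image with proper support along a closed immersion
-/

set_option autoImplicit false
set_option linter.style.haveILetI false
set_option linter.unusedSectionVars false
set_option backward.isDefEq.respectTransparency false
set_option backward.isDefEq.respectTransparency.types false

universe u

open CategoryTheory CategoryTheory.Limits AlgebraicGeometry Opposite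

namespace Groth.Agent.ShriekAdj6

attribute [local instance] HasDerivedCategory.standard

open Groth.Agent.EtStalk
open EtDl (pullPushModAdj unitMod)

variable (Λ : Type (u + 1)) [CommRing Λ]

/-- Restriction along an open immersion is inverse image. -/
noncomputable def restrPullModIso {U X : Scheme.{u}} (j : U ⟶ X) [IsOpenImmersion j] :
    EtDl.restrMod Λ j ≅ EtModW.pull Λ j :=
  ((compBcAdj j).sheafPushforwardContinuous (E := ModuleCat.{u + 1} Λ) U.smallEtaleTopology X.smallEtaleTopology :
    EtDl.restrMod Λ j ⊣ EtModW.push Λ j).leftAdjointUniq (pullPushModAdj Λ j)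

variable {Z X : Scheme.{u}}

/-- Along a closed and open immersion, extension by zero is direct image. -/
theorem nonempty_extZero_iso_push (e : Z ⟶ X) [IsOpenImmersion e] [IsClosedImmersion e] :
    Nonempty (EtDl.extZeroMod Λ e ≅ EtModW.push Λ e) := by
  let V : X.Opens := ⟨(Set.range e.base)ᶜ, e.isClosedEmbedding.isClosed_range.isOpen_compl⟩
  have hV : Set.range V.ι.base = (Set.range e.base)ᶜ := V.range_ι
  have hcl : IsClosed (Set.range V.ι.base) := by
    rw [hV]; exact e.isOpenEmbedding.isOpen_range.isClosed_compl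
  haveI : IsClosedImmersion V.ι := IsClosedImmersion.of_isPreimmersion _ hcl
  have hz : ∀ N, IsZero ((EtModW.pull Λ e).obj ((EtModW.push Λ V.ι).obj N)) := fun N =>
    isZero_pull_of_supp Λ e _ (Disjoint.mono_left (supp_pushMod Λ V.ι N) (by rw [hV]; exact disjoint_compl_left))
  haveI : PreservesFiniteLimits (EtModW.pull Λ e) := EtMod3.preservesFiniteLimits_pull Λ e
  haveI : ∀ F, IsIso ((EtModW.pull Λ e).map (suppι Λ V.ι F)) := fun F =>
    haveI : IsIso (kernelComparison (unitMod Λ V.ι F) (EtModW.pull Λ e)) := inferInstance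
    haveI : IsIso (kernel.ι ((EtModW.pull Λ e).map (unitMod Λ V.ι F))) :=
      ⟨kernel.lift _ (𝟙 _) ((hz _).eq_of_tgt _ _),
        by rw [← cancel_mono (kernel.ι ((EtModW.pull Λ e).map (unitMod Λ V.ι F))), Category.assoc, kernel.lift_ι,
          Category.comp_id, Category.id_comp],
        kernel.lift_ι _ _ _⟩
    by
      show IsIso ((EtModW.pull Λ e).map (kernel.ι (unitMod Λ V.ι F)))
      rw [← kernelComparison_comp_ι]
      infer_instance
  let φ : EtDl.secSuppMod Λ V.ι ⋙ EtModW.pull Λ e ≅ EtModW.pull Λ e :=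
    NatIso.ofComponents (fun F => asIso ((EtModW.pull Λ e).map (suppι Λ V.ι F))) fun {F F'} a => by
      show (EtModW.pull Λ e).map ((EtDl.secSuppMod Λ V.ι).map a) ≫ (EtModW.pull Λ e).map (suppι Λ V.ι F') =
        (EtModW.pull Λ e).map (suppι Λ V.ι F) ≫ (EtModW.pull Λ e).map a
      rw [← Functor.map_comp, ← Functor.map_comp, suppι_naturality]
  exact ⟨(EtDl.extZeroModAdj Λ e).leftAdjointUniq
    ((closedAdj Λ e hV).ofNatIsoRight (φ ≪≫ (restrPullModIso Λ e).symm))⟩

/-- `Ri_!` of a closed immersion has `i^* RΓ_Z` as right adjoint (S3726). -/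
theorem nonempty_adj_closed {U : Scheme.{u}} {i : Z ⟶ X} [IsClosedImmersion i] (c : DEt.Compactification i)
    (j : U ⟶ X) [IsOpenImmersion j] (hij : Set.range j.base = (Set.range i.base)ᶜ) :
    Nonempty (EtDl.RshriekPlus Λ c ⊣ EtDl.secSuppPlus Λ j ⋙ EtDl.pullPlus Λ i) := by
  haveI : IsProper (c.j ≫ c.fbar) := by rw [c.fac]; infer_instance
  haveI : IsProper c.j := IsProper.of_comp c.j c.fbar
  haveI : IsClosedImmersion c.j := IsClosedImmersion.of_isPreimmersion _ c.j.isClosedMap.isClosed_range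
  obtain ⟨e₁⟩ := nonempty_extZero_iso_push Λ c.j
  haveI : (EtDl.extZeroMod Λ c.j).PreservesInjectiveObjects :=
    ⟨fun {I} hI => Injective.of_iso (e₁.app I).symm (haveI := hI; (EtModW.push Λ c.j).injective_obj I)⟩
  let e : EtDl.extZeroMod Λ c.j ⋙ EtModW.push Λ c.fbar ≅ EtModW.push Λ i :=
    Functor.isoWhiskerRight e₁ _ ≪≫ EtSix.pushModComp Λ c.fbar c.j ≪≫ EtSix.pushModCongr Λ c.fac
  haveI := RPlusComp3.isIso_rPlusDesc₂ e.inv
  let E₁ : (EtModW.push Λ i).rightDerivedFunctorPlus ≅ EtDl.RshriekPlus Λ c := asIso (EtSix.rPlusDesc₂ e.inv)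
  let A := closedAdj Λ i hij
  let R := EtDl.secSuppMod Λ j ⋙ EtModW.pull Λ i
  haveI : (EtModW.pull Λ i).Additive := (EtSix.pullPushModAdj Λ i).left_adjoint_additive
  haveI : (EtModW.push Λ i).IsLeftAdjoint := A.isLeftAdjoint
  haveI : PreservesFiniteColimits (EtModW.push Λ i) := inferInstance
  haveI : (EtModW.push Λ i).IsRightAdjoint := (EtSix.pullPushModAdj Λ i).isRightAdjoint
  haveI : PreservesFiniteLimits (EtModW.push Λ i) := inferInstance
  haveI : R.PreservesInjectiveObjects :=
    Functor.preservesInjectiveObjects_of_adjunction_of_preservesMonomorphisms A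
  haveI : (EtDl.secSuppMod Λ j).PreservesInjectiveObjects :=
    ⟨fun {I} hI => haveI := hI
      haveI : Injective (R.obj I) := R.injective_obj I
      haveI := isIso_unit_secSupp Λ i hij I
      Injective.of_iso (asIso (unitMod Λ i ((EtDl.secSuppMod Λ j).obj I))).symm
        ((EtModW.push Λ i).injective_obj (R.obj I))⟩
  obtain ⟨A'⟩ := S14623.aux A
  haveI := RPlusComp3.isIso_rPlusDesc₂ (F := EtDl.secSuppMod Λ j) (G := EtModW.pull Λ i) (H := R) (𝟙 R)
  exact ⟨(A'.ofNatIsoLeft E₁).ofNatIsoRight (asIso (EtSix.rPlusDesc₂ (F := EtDl.secSuppMod Λ j)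
    (G := EtModW.pull Λ i) (H := R) (𝟙 R)))⟩

end Groth.Agent.ShriekAdj6
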