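import Groth.Agent.Lib.ShriekAdj6.Crit
import Groth.Agent.Lib.EtStalk.OpenImm
import Mathlib.CategoryTheory.Adjunction.Triple

/-!
# Direct image and extension by zero of modules along open immersions
-/

set_option autoImplicit false
set_option linter.style.haveILetI false
set_option linter.unusedSectionVars false
set_option backward.isDefEq.respectTransparency false
set_option backward.isDefEq.respectTransparency.types false

universe u

open CategoryTheory CategoryTheory.Limits AlgebraicGeometry Opposite

namespace Groth.Agent.ShriekAdj6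

open Groth.Agent.EtStalk
open EtDl (pullPushModAdj unitMod)

variable (Λ : Type (u + 1)) [CommRing Λ] {U X : Scheme.{u}}

/-- The counits of modules and of abelian sheaves agree. -/
theorem forget_counit (f : U ⟶ X) (M : EtModW.Mod Λ U) :
    (PBC24.pullForget Λ f).hom.app ((EtModW.push Λ f).obj M) ≫
        (EtModD.forgetToAb Λ U).map ((EtSix.pullPushModAdj Λ f).counit.app M) =
      (EtCoh.pullPushAdj f).counit.app ((EtModD.forgetToAb Λ U).obj M) := by
  apply ((EtCoh.pullPushAdj f).homEquiv _ _).injective
  rw [Adjunction.homEquiv_unit, Functor.map_comp, ← Category.assoc]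
  erw [PBC24.unit_pullForget Λ f ((EtModW.push Λ f).obj M)]
  erw [Adjunction.homEquiv_unit, (EtCoh.pullPushAdj f).right_triangle_components ((EtModD.forgetToAb Λ U).obj M)]
  show (EtModD.forgetToAb Λ X).map ((EtSix.pullPushModAdj Λ f).unit.app ((EtModW.push Λ f).obj M)) ≫
    (EtModD.forgetToAb Λ X).map ((EtModW.push Λ f).map ((EtSix.pullPushModAdj Λ f).counit.app M)) = _
  rw [← Functor.map_comp, (EtSix.pullPushModAdj Λ f).right_triangle_components]
  exact (EtModD.forgetToAb Λ X).map_id _

variable (j : U ⟶ X) [IsOpenImmersion j]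

/-- Direct image of abelian sheaves along an open immersion is fully faithful. -/
theorem isIso_counit_ab : IsIso (EtCoh.pullPushAdj j).counit := by
  let t : Adjunction.Triple (EtShriek.extZero j) (EtShriek.restrAlong j) (EtCoh.push j) :=
    ⟨EtShriek.extZeroAdj j, restrPushAdj j⟩
  haveI : IsIso t.adj₁.unit := isIso_extZero_unit j
  haveI : IsIso t.adj₂.counit := t.isIso_unit_iff_isIso_counit.1 inferInstance
  haveI := t.adj₂.fullyFaithfulROfIsIsoCounit.full
  haveI := t.adj₂.fullyFaithfulROfIsIsoCounit.faithful
  infer_instance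

/-- Direct image of modules along an open immersion is fully faithful. -/
theorem isIso_counit_open (M : EtModW.Mod Λ U) : IsIso ((pullPushModAdj Λ j).counit.app M) := by
  haveI := isIso_counit_ab j
  haveI : IsIso ((EtModD.forgetToAb Λ U).map ((EtSix.pullPushModAdj Λ j).counit.app M)) := by
    haveI : IsIso ((PBC24.pullForget Λ j).hom.app ((EtModW.push Λ j).obj M) ≫
        (EtModD.forgetToAb Λ U).map ((EtSix.pullPushModAdj Λ j).counit.app M)) := by
      rw [forget_counit]; infer_instance
    exact IsIso.of_isIso_comp_left ((PBC24.pullForget Λ j).hom.app ((EtModW.push Λ j).obj M)) _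
  haveI : (EtModD.forgetToAb Λ U).ReflectsIsomorphisms :=
    reflectsIsomorphisms_of_reflectsMonomorphisms_of_reflectsEpimorphisms _
  exact isIso_of_reflects_iso ((EtSix.pullPushModAdj Λ j).counit.app M) (EtModD.forgetToAb Λ U)

/-- Extension by zero of modules is left adjoint to inverse image. -/
noncomputable def extZeroPullAdj : EtDl.extZeroMod Λ j ⊣ EtModW.pull Λ j :=
  (EtDl.extZeroModAdj Λ j).ofNatIsoRight (restrPullModIso Λ j)

theorem isIso_extZeroPull_unit : IsIso (extZeroPullAdj Λ j).unit := by
  let t : Adjunction.Triple (EtDl.extZeroMod Λ j) (EtModW.pull Λ j) (EtModW.push Λ j) :=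
    ⟨extZeroPullAdj Λ j, pullPushModAdj Λ j⟩
  haveI : ∀ M, IsIso ((pullPushModAdj Λ j).counit.app M) := isIso_counit_open Λ j
  haveI : IsIso t.adj₂.counit := NatIso.isIso_of_isIso_app _
  exact t.isIso_unit_iff_isIso_counit.2 inferInstance

end Groth.Agent.ShriekAdj6
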